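import Cfsg.Agent.Lib.Comp.ON.Main

set_option maxRecDepth 100000
set_option Elab.async false

namespace Cfsg.Lib.Comp.ON

universe u

theorem U_act : cnd (transB nets L [1,4,5,6,7,1,6,8,5,4,3,1,6,7,4,5,1,6,7,1,4,5,8,6,7,1,4,3,1,4] 122760) (cnd (allL ([3,4,5,6,7,8].map fun x => [x]) fun w => subB w L) (wfixB nets ([3,4,5,6,7,8].map fun x => [x]) 0) false) false = true := by
  decide +kernel

end Cfsg.Lib.Comp.ON
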