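import Cfsg.Agent.Lib.Comp.ON.Cv32

set_option maxRecDepth 100000
set_option Elab.async false

namespace Cfsg.Lib.Comp.ON

universe u

theorem Cv3n_r0_0 : eqB 393216 19 0 19 Cv3n [3] 1 [] = true := by decide +kernel

theorem Cv3n_r1_0 : eqB 393216 19 0 19 Cv3n [4] 1 [] = true := by decide +kernel

theorem Cv3n_r2_0 : eqB 393216 19 0 19 Cv3n [5] 1 [] = true := by decide +kernel

theorem Cv3n_r3_0 : eqB 393216 19 0 19 Cv3n [6] 1 [] = true := by decide +kernel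

theorem Cv3n_r4_0 : eqB 393216 19 0 19 Cv3n [7] 1 [] = true := by decide +kernel

theorem Cv3n_r5_0 : eqB 393216 19 0 19 Cv3n [8] 1 [] = true := by decide +kernel

theorem Cv3n_r6_0 : eqB 393216 19 0 19 Cv3n [3,4] 2 [] = true := by decide +kernel

theorem Cv3n_r7_0 : eqB 393216 19 0 19 Cv3n [3,5] 1 [] = true := by decide +kernel

theorem Cv3n_r8_0 : eqB 393216 19 0 19 Cv3n [3,6] 1 [] = true := by decide +kernel

theorem Cv3n_r9_0 : eqB 393216 19 0 19 Cv3n [3,7] 1 [] = true := by decide +kernel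

theorem Cv3n_r10_0 : eqB 393216 19 0 19 Cv3n [3,8] 1 [] = true := by decide +kernel

theorem Cv3n_r11_0 : eqB 393216 19 0 19 Cv3n [4,5] 2 [] = true := by decide +kernel

theorem Cv3n_r12_0 : eqB 393216 19 0 19 Cv3n [4,6] 1 [] = true := by decide +kernel

theorem Cv3n_r13_0 : eqB 393216 19 0 19 Cv3n [4,7] 1 [] = true := by decide +kernel

theorem Cv3n_r14_0 : eqB 393216 19 0 19 Cv3n [4,8] 1 [] = true := by decide +kernel

theorem Cv3n_r15_0 : eqB 393216 19 0 10 Cv3n [5,6] 7 [] = true := by decide +kernel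

theorem Cv3n_r15_10 : eqB 393216 19 10 9 Cv3n [5,6] 7 [] = true := by decide +kernel

theorem Cv3n_r16_0 : eqB 393216 19 0 19 Cv3n [5,7] 1 [] = true := by decide +kernel

theorem Cv3n_r17_0 : eqB 393216 19 0 19 Cv3n [5,8] 1 [] = true := by decide +kernel

theorem Cv3n_r18_0 : eqB 393216 19 0 19 Cv3n [6,7] 2 [] = true := by decide +kernel

theorem Cv3n_r19_0 : eqB 393216 19 0 19 Cv3n [6,8] 1 [] = true := by decide +kernel

theorem Cv3n_r20_0 : eqB 393216 19 0 19 Cv3n [7,8] 2 [] = true := by decide +kernel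

theorem Cv3n_r21_0 : eqB 393216 19 0 19 Cv3n [3,8,2,2] 0 [] = true := by decide +kernel

theorem Cv3n_r22_0 : eqB 393216 19 0 10 Cv3n [3,8,6,5,6,5,6,5,6,5] 0 [] = true := by decide +kernel

theorem Cv3n_r22_10 : eqB 393216 19 10 9 Cv3n [3,8,6,5,6,5,6,5,6,5] 0 [] = true := by decide +kernel

theorem Cv3n_r23_0 : eqB 393216 19 0 10 Cv3n [5,2,6,2,6,5,6,1,6,1] 0 [] = true := by decide +kernel

theorem Cv3n_r23_10 : eqB 393216 19 10 9 Cv3n [5,2,6,2,6,5,6,1,6,1] 0 [] = true := by decide +kernel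

theorem Cv3n_r24_0 : eqB 393216 19 0 10 Cv3n [6,2,5,2,5,6,5,1,5,1] 0 [] = true := by decide +kernel

theorem Cv3n_r24_10 : eqB 393216 19 10 9 Cv3n [6,2,5,2,5,6,5,1,5,1] 0 [] = true := by decide +kernel

theorem Cv3n_r25_0 : eqB 393216 19 0 7 Cv3n [4,5,6,1,4,5,6,1,4,5,6,1,4,5,6,1,4,5,6,1,9,9] 0 [] = true := by decide +kernel

theorem Cv3n_r25_7 : eqB 393216 19 7 7 Cv3n [4,5,6,1,4,5,6,1,4,5,6,1,4,5,6,1,4,5,6,1,9,9] 0 [] = true := by decide +kernel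

theorem Cv3n_r25_14 : eqB 393216 19 14 5 Cv3n [4,5,6,1,4,5,6,1,4,5,6,1,4,5,6,1,4,5,6,1,9,9] 0 [] = true := by decide +kernel

theorem Cv3n_r26_0 : eqB 393216 19 0 10 Cv3n [1,4,5,1,5,4,1,4,5,1,5,9,9] 0 [] = true := by decide +kernel

theorem Cv3n_r26_10 : eqB 393216 19 10 9 Cv3n [1,4,5,1,5,4,1,4,5,1,5,9,9] 0 [] = true := by decide +kernel

theorem Cv3n_r27_0 : eqB 393216 19 0 10 Cv3n [1,7,6,1,6,7,1,7,6,1,6,9,9] 0 [] = true := by decide +kernel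

theorem Cv3n_r27_10 : eqB 393216 19 10 9 Cv3n [1,7,6,1,6,7,1,7,6,1,6,9,9] 0 [] = true := by decide +kernel

theorem Cv3n_r28_0 : eqB 393216 19 0 19 Cv3n [1,2] 0 [] = true := by decide +kernel

theorem Cv3n_r29_0 : eqB 393216 19 0 19 Cv3n [2,1] 0 [] = true := by decide +kernel

theorem Cv3n_r30_0 : eqB 393216 19 0 19 Cv3n [9] 2 [] = true := by decide +kernel

theorem Cv3n_rel : Rels (gp Cv3n) Cv3R := by
  unfold Cv3R
  try simp only [apd_eq]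
  intro r hr
  simp only [List.mem_append, List.mem_cons, List.not_mem_nil, or_false, or_assoc] at hr
  rcases hr with rfl | rfl | rfl | rfl | rfl | rfl | rfl | rfl | rfl | rfl | rfl | rfl | rfl | rfl | rfl | rfl | rfl | rfl | rfl | rfl | rfl | rfl | rfl | rfl | rfl | rfl | rfl | rfl | rfl | rfl | rfl
  · exact AgreeBits.eq (k := 19) (agree_of_eqB Cv3n_ok (by norm_num) Cv3n_r0_0) (by norm_num) ((fx_ev Cv3n_ok.fx _).pow _) (Fx.one _)
  · exact AgreeBits.eq (k := 19) (agree_of_eqB Cv3n_ok (by norm_num) Cv3n_r1_0) (by norm_num) ((fx_ev Cv3n_ok.fx _).pow _) (Fx.one _)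
  · exact AgreeBits.eq (k := 19) (agree_of_eqB Cv3n_ok (by norm_num) Cv3n_r2_0) (by norm_num) ((fx_ev Cv3n_ok.fx _).pow _) (Fx.one _)
  · exact AgreeBits.eq (k := 19) (agree_of_eqB Cv3n_ok (by norm_num) Cv3n_r3_0) (by norm_num) ((fx_ev Cv3n_ok.fx _).pow _) (Fx.one _)
  · exact AgreeBits.eq (k := 19) (agree_of_eqB Cv3n_ok (by norm_num) Cv3n_r4_0) (by norm_num) ((fx_ev Cv3n_ok.fx _).pow _) (Fx.one _)
  · exact AgreeBits.eq (k := 19) (agree_of_eqB Cv3n_ok (by norm_num) Cv3n_r5_0) (by norm_num) ((fx_ev Cv3n_ok.fx _).pow _) (Fx.one _)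
  · exact AgreeBits.eq (k := 19) (agree_of_eqB Cv3n_ok (by norm_num) Cv3n_r6_0) (by norm_num) ((fx_ev Cv3n_ok.fx _).pow _) (Fx.one _)
  · exact AgreeBits.eq (k := 19) (agree_of_eqB Cv3n_ok (by norm_num) Cv3n_r7_0) (by norm_num) ((fx_ev Cv3n_ok.fx _).pow _) (Fx.one _)
  · exact AgreeBits.eq (k := 19) (agree_of_eqB Cv3n_ok (by norm_num) Cv3n_r8_0) (by norm_num) ((fx_ev Cv3n_ok.fx _).pow _) (Fx.one _)
  · exact AgreeBits.eq (k := 19) (agree_of_eqB Cv3n_ok (by norm_num) Cv3n_r9_0) (by norm_num) ((fx_ev Cv3n_ok.fx _).pow _) (Fx.one _)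
  · exact AgreeBits.eq (k := 19) (agree_of_eqB Cv3n_ok (by norm_num) Cv3n_r10_0) (by norm_num) ((fx_ev Cv3n_ok.fx _).pow _) (Fx.one _)
  · exact AgreeBits.eq (k := 19) (agree_of_eqB Cv3n_ok (by norm_num) Cv3n_r11_0) (by norm_num) ((fx_ev Cv3n_ok.fx _).pow _) (Fx.one _)
  · exact AgreeBits.eq (k := 19) (agree_of_eqB Cv3n_ok (by norm_num) Cv3n_r12_0) (by norm_num) ((fx_ev Cv3n_ok.fx _).pow _) (Fx.one _)
  · exact AgreeBits.eq (k := 19) (agree_of_eqB Cv3n_ok (by norm_num) Cv3n_r13_0) (by norm_num) ((fx_ev Cv3n_ok.fx _).pow _) (Fx.one _)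
  · exact AgreeBits.eq (k := 19) (agree_of_eqB Cv3n_ok (by norm_num) Cv3n_r14_0) (by norm_num) ((fx_ev Cv3n_ok.fx _).pow _) (Fx.one _)
  · exact AgreeBits.eq (k := 19) (AgreeBits.trans (agree_of_eqB Cv3n_ok (by norm_num) Cv3n_r15_0) (agree_of_eqB Cv3n_ok (by norm_num) Cv3n_r15_10)) (by norm_num) ((fx_ev Cv3n_ok.fx _).pow _) (Fx.one _)
  · exact AgreeBits.eq (k := 19) (agree_of_eqB Cv3n_ok (by norm_num) Cv3n_r16_0) (by norm_num) ((fx_ev Cv3n_ok.fx _).pow _) (Fx.one _)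
  · exact AgreeBits.eq (k := 19) (agree_of_eqB Cv3n_ok (by norm_num) Cv3n_r17_0) (by norm_num) ((fx_ev Cv3n_ok.fx _).pow _) (Fx.one _)
  · exact AgreeBits.eq (k := 19) (agree_of_eqB Cv3n_ok (by norm_num) Cv3n_r18_0) (by norm_num) ((fx_ev Cv3n_ok.fx _).pow _) (Fx.one _)
  · exact AgreeBits.eq (k := 19) (agree_of_eqB Cv3n_ok (by norm_num) Cv3n_r19_0) (by norm_num) ((fx_ev Cv3n_ok.fx _).pow _) (Fx.one _)
  · exact AgreeBits.eq (k := 19) (agree_of_eqB Cv3n_ok (by norm_num) Cv3n_r20_0) (by norm_num) ((fx_ev Cv3n_ok.fx _).pow _) (Fx.one _)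
  · exact AgreeBits.eq (k := 19) (agree_of_eqB Cv3n_ok (by norm_num) Cv3n_r21_0) (by norm_num) ((fx_ev Cv3n_ok.fx _).pow _) (Fx.one _)
  · exact AgreeBits.eq (k := 19) (AgreeBits.trans (agree_of_eqB Cv3n_ok (by norm_num) Cv3n_r22_0) (agree_of_eqB Cv3n_ok (by norm_num) Cv3n_r22_10)) (by norm_num) ((fx_ev Cv3n_ok.fx _).pow _) (Fx.one _)
  · exact AgreeBits.eq (k := 19) (AgreeBits.trans (agree_of_eqB Cv3n_ok (by norm_num) Cv3n_r23_0) (agree_of_eqB Cv3n_ok (by norm_num) Cv3n_r23_10)) (by norm_num) ((fx_ev Cv3n_ok.fx _).pow _) (Fx.one _)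
  · exact AgreeBits.eq (k := 19) (AgreeBits.trans (agree_of_eqB Cv3n_ok (by norm_num) Cv3n_r24_0) (agree_of_eqB Cv3n_ok (by norm_num) Cv3n_r24_10)) (by norm_num) ((fx_ev Cv3n_ok.fx _).pow _) (Fx.one _)
  · exact AgreeBits.eq (k := 19) (AgreeBits.trans (AgreeBits.trans (agree_of_eqB Cv3n_ok (by norm_num) Cv3n_r25_0) (agree_of_eqB Cv3n_ok (by norm_num) Cv3n_r25_7)) (agree_of_eqB Cv3n_ok (by norm_num) Cv3n_r25_14)) (by norm_num) ((fx_ev Cv3n_ok.fx _).pow _) (Fx.one _)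
  · exact AgreeBits.eq (k := 19) (AgreeBits.trans (agree_of_eqB Cv3n_ok (by norm_num) Cv3n_r26_0) (agree_of_eqB Cv3n_ok (by norm_num) Cv3n_r26_10)) (by norm_num) ((fx_ev Cv3n_ok.fx _).pow _) (Fx.one _)
  · exact AgreeBits.eq (k := 19) (AgreeBits.trans (agree_of_eqB Cv3n_ok (by norm_num) Cv3n_r27_0) (agree_of_eqB Cv3n_ok (by norm_num) Cv3n_r27_10)) (by norm_num) ((fx_ev Cv3n_ok.fx _).pow _) (Fx.one _)
  · exact AgreeBits.eq (k := 19) (agree_of_eqB Cv3n_ok (by norm_num) Cv3n_r28_0) (by norm_num) ((fx_ev Cv3n_ok.fx _).pow _) (Fx.one _)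
  · exact AgreeBits.eq (k := 19) (agree_of_eqB Cv3n_ok (by norm_num) Cv3n_r29_0) (by norm_num) ((fx_ev Cv3n_ok.fx _).pow _) (Fx.one _)
  · exact AgreeBits.eq (k := 19) (agree_of_eqB Cv3n_ok (by norm_num) Cv3n_r30_0) (by norm_num) ((fx_ev Cv3n_ok.fx _).pow _) (Fx.one _)

end Cfsg.Lib.Comp.ON
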