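import Cfsg.Agent.Lib.Comp.ON.Cv33

set_option maxRecDepth 100000
set_option Elab.async false

namespace Cfsg.Lib.Comp.ON

universe u

theorem Cv3_z1 : ev (gp Cv3n) [1,9] ^ (0 + 1) = ev (gp Cv3n) [9,1] :=
  eq_of_eqB (k := 19) Cv3n_ok (by norm_num) (by decide +kernel)

theorem Cv3_z2 : ev (gp Cv3n) [2,9] ^ (0 + 1) = ev (gp Cv3n) [9,2] :=
  eq_of_eqB (k := 19) Cv3n_ok (by norm_num) (by decide +kernel)

theorem Cv3_z3 : ev (gp Cv3n) [3,9] ^ (0 + 1) = ev (gp Cv3n) [9,3] :=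
  eq_of_eqB (k := 19) Cv3n_ok (by norm_num) (by decide +kernel)

theorem Cv3_z4 : ev (gp Cv3n) [4,9] ^ (0 + 1) = ev (gp Cv3n) [9,4] :=
  eq_of_eqB (k := 19) Cv3n_ok (by norm_num) (by decide +kernel)

theorem Cv3_z5 : ev (gp Cv3n) [5,9] ^ (0 + 1) = ev (gp Cv3n) [9,5] :=
  eq_of_eqB (k := 19) Cv3n_ok (by norm_num) (by decide +kernel)

theorem Cv3_z6 : ev (gp Cv3n) [6,9] ^ (0 + 1) = ev (gp Cv3n) [9,6] :=
  eq_of_eqB (k := 19) Cv3n_ok (by norm_num) (by decide +kernel)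

theorem Cv3_z7 : ev (gp Cv3n) [7,9] ^ (0 + 1) = ev (gp Cv3n) [9,7] :=
  eq_of_eqB (k := 19) Cv3n_ok (by norm_num) (by decide +kernel)

theorem Cv3_z8 : ev (gp Cv3n) [8,9] ^ (0 + 1) = ev (gp Cv3n) [9,8] :=
  eq_of_eqB (k := 19) Cv3n_ok (by norm_num) (by decide +kernel)

theorem Cv3_a : ev (gp Cv3n) (apd [1,4,1] [2,4,2]) ^ (0 + 1) = ev (gp Cv3n) [] :=
  eq_of_eqB (k := 19) Cv3n_ok (by norm_num) (by decide +kernel)

theorem Cv3_b : ev (gp Cv3n) (apd [3,4] [4,3]) ^ (0 + 1) = ev (gp Cv3n) [] :=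
  eq_of_eqB (k := 19) Cv3n_ok (by norm_num) (by decide +kernel)

theorem Cv3_c_0 : eqB 393216 19 0 10 Cv3n (apd [1,4,1] (apd [3,4] (apd [2,4,2] [4,3]))) 0 [9] = true := by decide +kernel

theorem Cv3_c_10 : eqB 393216 19 10 9 Cv3n (apd [1,4,1] (apd [3,4] (apd [2,4,2] [4,3]))) 0 [9] = true := by decide +kernel

theorem Cv3_c : ev (gp Cv3n) (apd [1,4,1] (apd [3,4] (apd [2,4,2] [4,3]))) ^ (0 + 1) = ev (gp Cv3n) [9] :=
  AgreeBits.eq (k := 19) (AgreeBits.trans (agree_of_eqB Cv3n_ok (by norm_num) Cv3_c_0) (agree_of_eqB Cv3n_ok (by norm_num) Cv3_c_10)) (by norm_num) ((fx_ev Cv3n_ok.fx _).pow _) (fx_ev Cv3n_ok.fx _)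

theorem Cv3 (hs : IsSimpleGroup (cl (gp nets) L)) : Cover (cl (gp nets) L) (3 ^ (0 + 1)) :=
  cover_nets (R := R) hs nets_iv nets_rel (ord.of_cons (cons_of_subset (by decide +kernel))) lb Cv3n_ok Cv3n_rel (m := 3) (by decide +kernel)
    (by unfold L; simp only [List.forall_mem_cons]; exact ⟨Cv3_z1, Cv3_z2, Cv3_z3, Cv3_z4, Cv3_z5, Cv3_z6, Cv3_z7, Cv3_z8, by simp⟩) Cv3_a Cv3_b Cv3_c
    (x := 1) (y := 4) (k := 2) (pt := 0) (pt' := 0) (by norm_num) (by decide +kernel) (by norm_num) (by decide +kernel)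

end Cfsg.Lib.Comp.ON
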