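import Cfsg.Agent.Lib.Comp.ON.Simple
import Cfsg.Agent.Lib.Comp.Bridge2
import Cfsg.Prelude.Def_Spor_ON

set_option maxRecDepth 100000
set_option Elab.async false

namespace Cfsg.Lib.Comp.ON

universe u

open Cfsg.Spor

def all : List ON.Gen := [.g, .a, .b, .c, .d, .e, .f]
def ix (x : ON.Gen) : ℕ := [1,3,4,5,6,7,8].getD (List.idxOf x all) 0
def D : List (ON.Gen × Bool) := [(.g, true), (.g, false), (.a, true), (.b, true), (.c, true), (.d, true), (.e, true), (.f, true)]
theorem ok : CoxOK ON.edges ON.extra all ix D iv R L := by decide +kernel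
theorem hall : ∀ x, x ∈ all := by intro x; cases x <;> decide

theorem equiv : ∃ e : Spor.ON ≃* cl (gp nets) L,
    ∀ x ∈ L, (e (cval ON.edges ON.extra D x) : Equiv.Perm ℕ) = gp nets x := by
  have := nets_ok.finite L
  obtain ⟨e, he, -⟩ := ok.equiv hall ord nets_iv nets_rel lb
  exact ⟨e, he⟩

theorem main : IsSimpleGroup Spor.ON ∧ Nat.card Spor.ON = 460815505920 := by
  obtain ⟨e, -⟩ := equiv
  have := simple
  exact ⟨e.isSimpleGroup, (Nat.card_congr e.toEquiv).trans card⟩

end Cfsg.Lib.Comp.ON
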