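import Cfsg.Agent.Lib.Comp.ON.Tab45
import Cfsg.Agent.Lib.Comp.Quot

/-! The triple cover of the O'Nan group in `SL₄₅(7)`. -/

set_option maxRecDepth 100000
set_option Elab.async false

namespace Cfsg.Lib.Comp.ON

open Cfsg.Lib.MatB Matrix Subgroup

theorem mctx : Ctx 12 7 45 45 (0 : ZMod 7) (Fin.val : Fin 45 → ℕ) mrd :=
  ⟨fun _ _ => Fin.ext, Fin.is_lt, fun j h => ⟨⟨j, h⟩, rfl⟩, Or.inr ⟨rfl, rfl⟩, by decide +kernel, by norm_num,
    by norm_num, mrd_eq⟩

theorem mok : ∀ x, TabOK 12 45 45 (0 : ZMod 7) mrd (mtab x) := tabOK_nth (by decide +kernel)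

noncomputable def mR : List (List ℕ × ℕ) := apd R (L.map fun x => ([x, iv x], 0))

theorem mside : SideOK iv R mR L := by decide +kernel

theorem mrel0 : relB 12 45 mrd mtab [0, 9, 10] ((mR.drop 0).take 10) = true := by decide +kernel

theorem mrel1 : relB 12 45 mrd mtab [0, 9, 10] ((mR.drop 10).take 8) = true := by decide +kernel

theorem mrel2 : relB 12 45 mrd mtab [0, 9, 10] ((mR.drop 18).take 4) = true := by decide +kernel

theorem mrel3 : relB 12 45 mrd mtab [0, 9, 10] ((mR.drop 22).take 3) = true := by decide +kernel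

theorem mrel4 : relB 12 45 mrd mtab [0, 9, 10] ((mR.drop 25).take 1) = true := by decide +kernel

theorem mrel5 : relB 12 45 mrd mtab [0, 9, 10] ((mR.drop 26).take 2) = true := by decide +kernel

theorem mrel6 : relB 12 45 mrd mtab [0, 9, 10] ((mR.drop 28).take 9) = true := by decide +kernel

theorem mrel : ∀ r ∈ mR, ∃ z ∈ [0, 9, 10], ev (fun x => tm 12 45 (0 : ZMod 7) (Fin.val : Fin 45 → ℕ) (mtab x)) r.1 ^ (r.2 + 1) =
    tm 12 45 0 Fin.val (mtab z) := fun r hr => by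
  rcases (show r ∈ (mR.drop 0).take 10 ∨ r ∈ (mR.drop 10).take 8 ∨ r ∈ (mR.drop 18).take 4 ∨ r ∈ (mR.drop 22).take 3 ∨ r ∈ (mR.drop 25).take 1 ∨ r ∈ (mR.drop 26).take 2 ∨ r ∈ (mR.drop 28).take 9 by revert r; decide +kernel) with h | h | h | h | h | h | h
  exacts [mctx.rel mok mrel0 r h, mctx.rel mok mrel1 r h, mctx.rel mok mrel2 r h, mctx.rel mok mrel3 r h, mctx.rel mok mrel4 r h, mctx.rel mok mrel5 r h, mctx.rel mok mrel6 r h]

noncomputable abbrev mM (x : ℕ) : Matrix (Fin 45) (Fin 45) (ZMod 7) := tm 12 45 0 Fin.val (mtab x)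

theorem mM_nine : mM 9 = (2 : ZMod 7) • (1 : Matrix (Fin 45) (Fin 45) (ZMod 7)) := by decide +kernel

theorem mZ : ∀ y ∈ [0, 9, 10], ∃ k, mM y = mM 9 ^ k := by
  have p : ∀ k {w}, weqB 12 45 mrd mtab (pw [9] k) [w] = true → mM w = mM 9 ^ (k + 1) := fun k w a => by
    have := mctx.weq mok a
    rw [ev_pw, ev_single, ev_single] at this
    exact this.symm
  simp only [List.forall_mem_cons]
  exact ⟨⟨3, p 2 (by decide +kernel)⟩, ⟨1, (pow_one _).symm⟩, ⟨2, p 1 (by decide +kernel)⟩, by simp⟩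

theorem det_rels {ι C : Type} [Fintype ι] [DecidableEq ι] [CommRing C] {M : ℕ → Matrix ι ι C} {z : ℕ} {Z : List ℕ}
    {R : List (List ℕ × ℕ)} (hz : (M z).det = 1) (hZ : ∀ y ∈ Z, ∃ k, M y = M z ^ k)
    (hR : ∀ r ∈ R, ∃ y ∈ Z, ev M r.1 ^ (r.2 + 1) = M y) : Rels (fun x => (M x).det) R := fun r hr => by
  obtain ⟨y, hy, e⟩ := hR r hr
  obtain ⟨k, hk⟩ := hZ y hy
  have := congrArg detMonoidHom (e.trans hk)
  rw [map_pow, map_pow, ev_map] at this
  exact this.trans ((congrArg (· ^ k) hz).trans (one_pow k))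

theorem ab_rels {d : ℕ → ZMod 7} (h : Rels d mR) : ∀ x ∈ L, d x = 1 := by
  have k := fun u n (a : (u, n) ∈ mR) => h (u, n) a
  have s : ∀ a b : ZMod 7, (a * 1) ^ (1 + 1) = 1 → (b * 1) ^ (1 + 1) = 1 → (a * (b * 1)) ^ (2 + 1) = 1 → a = b := by
    decide +kernel
  have e34 : d 3 = d 4 := s _ _ (k [3] 1 (by decide +kernel)) (k [4] 1 (by decide +kernel)) (k [3,4] 2 (by decide +kernel))
  have e45 : d 4 = d 5 := s _ _ (k [4] 1 (by decide +kernel)) (k [5] 1 (by decide +kernel)) (k [4,5] 2 (by decide +kernel))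
  have e67 : d 6 = d 7 := s _ _ (k [6] 1 (by decide +kernel)) (k [7] 1 (by decide +kernel)) (k [6,7] 2 (by decide +kernel))
  have e78 : d 7 = d 8 := s _ _ (k [7] 1 (by decide +kernel)) (k [8] 1 (by decide +kernel)) (k [7,8] 2 (by decide +kernel))
  have a1 := k [3] 1 (by decide +kernel)
  have a2 := k [1,2] 0 (by decide +kernel)
  have a3 := k [3,8,2,2] 0 (by decide +kernel)
  have a4 := k [3,8,6,5,6,5,6,5,6,5] 0 (by decide +kernel)
  have a5 := k [4,5,6,1] 4 (by decide +kernel)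
  have a6 := k [1,4,5,1,5,4,1,4,5,1,5] 0 (by decide +kernel)
  simp only [ev_cons, ev_nil, ← e34, ← e45, ← e67, ← e78] at a1 a2 a3 a4 a5 a6
  simp only [L, List.forall_mem_cons, ← e34, ← e45, ← e67, ← e78, List.not_mem_nil, IsEmpty.forall_iff, implies_true,
    and_true]
  revert a1 a2 a3 a4 a5 a6
  generalize d 1 = a, d 2 = b, d 3 = c, d 6 = f
  revert a b c f
  decide +kernel

theorem mdet : ∀ x ∈ 9 :: L, (mM x).det = 1 := by
  have h9 : (mM 9).det = 1 := by
    rw [mM_nine, det_smul, det_one]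
    exact (by decide +kernel : (2 : ZMod 7) ^ Fintype.card (Fin 45) * 1 = 1)
  exact List.forall_mem_cons.2 ⟨h9, ab_rels (det_rels h9 mZ mrel)⟩

theorem sl45 : ∃ H : Subgroup (SpecialLinearGroup (Fin 45) (ZMod 7)), Nat.card (center H) = 3 ∧
    Nonempty (cl (gp nets) L ≃* H ⧸ center H) := by
  have := simple
  choose! γ hγ using show ∀ x ∈ 9 :: L, ∃ a : SpecialLinearGroup (Fin 45) (ZMod 7),
    Matrix.SpecialLinearGroup.coeMonoidHom a = (mM x).map (RingHom.id _) from fun x hx => ⟨⟨_, mdet x hx⟩, rfl⟩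
  obtain ⟨a, -, e, -⟩ := mat_quot nets_iv nets_rel ord card.ge mside (RingHom.id _) Function.injective_id
    Matrix.SpecialLinearGroup.coeMonoidHom Subtype.val_injective hγ (by decide +kernel) mZ mrel (x := 1) (y := 4) (by decide) (by decide)
    (i := 0) (j := 0) (by decide +kernel)
  refine ⟨_, a.trans (orderOf_eq_prime (p := 3) ?_ (by decide +kernel)), ⟨e⟩⟩
  have := mctx.weq mok (u := pw [9] 2) (v := []) (by decide +kernel)
  rwa [ev_pw, ev_single] at this

end Cfsg.Lib.Comp.ON
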