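import Cfsg.Agent.Lib.Comp.ON.MuaH0_0
import Cfsg.Agent.Lib.Comp.ON.MuaH0_1
import Cfsg.Agent.Lib.Comp.ON.MuaH0_2
import Cfsg.Agent.Lib.Comp.ON.MuaH0_3
import Cfsg.Agent.Lib.Comp.ON.MuaH0_4
import Cfsg.Agent.Lib.Comp.ON.Mua0
import Cfsg.Agent.Lib.Comp.ON.Main
import Cfsg.Agent.Lib.Comp.Cover

set_option maxRecDepth 100000
set_option Elab.async false

namespace Cfsg.Lib.Comp.ON

universe u

theorem MuaH0_4_ord : Ord.{u} iv MuaH0_4_R [3] 2 :=
  (MuaH0_4_idx.ord_base).of_cons (cons_of_subset (by decide +kernel))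

theorem MuaH0_3_ord : Ord.{u} iv MuaH0_3_R [3,4] 6 :=
  (MuaH0_3_idx.ord_step MuaH0_4_ord).of_cons (cons_of_subset (by decide +kernel))

theorem MuaH0_2_ord : Ord.{u} iv MuaH0_2_R [3,4,5] 24 :=
  (MuaH0_2_idx.ord_step MuaH0_3_ord).of_cons (cons_of_subset (by decide +kernel))

theorem MuaH0_1_ord : Ord.{u} iv MuaH0_1_R [3,4,5,8] 48 :=
  (MuaH0_1_idx.ord_step MuaH0_2_ord).of_cons (cons_of_subset (by decide +kernel))

theorem MuaH0_0_ord : Ord.{u} iv MuaH0_0_R [1,2,3,4,5,8] 1440 :=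
  (MuaH0_0_idx.ord_step MuaH0_1_ord).of_cons (cons_of_subset (by decide +kernel))

noncomputable def MuaH0_lb_n_1 : Net :=
 (Net.cons 32 (nat_lit 0x1b84e696)
 (Net.cons 16 (nat_lit 0xb3840000d902)
 (Net.cons 8 (nat_lit 0xf4009800ac006a)
 (Net.cons 4 (nat_lit 0xc0a000802080a08)
 (Net.cons 2 (nat_lit 0x202200200022202)
 (Net.cons 1 (nat_lit 0x114154401414451)
 (Net.cons 2 (nat_lit 0x2122332310000311)
 (Net.cons 4 (nat_lit 0x200000f0f0a0009)
 (Net.cons 8 (nat_lit 0xfa009600540009)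
 (Net.cons 16 (nat_lit 0xb3690000993c)
 (Net.cons 32 (nat_lit 0x1cb8cc25)
 Net.nil)))))))))))

noncomputable def MuaH0_lb_n_3 : Net :=
 (Net.cons 32 (nat_lit 0xaebd0000)
 (Net.cons 16 (nat_lit 0x5d4000002004)
 (Net.cons 8 (nat_lit 0x1000d000320020)
 (Net.cons 4 (nat_lit 0x60004040400)
 (Net.cons 2 (nat_lit 0x2000200002020)
 (Net.cons 1 (nat_lit 0x5054100100101010)
 (Net.cons 2 (nat_lit 0x102010210032123)
 (Net.cons 4 (nat_lit 0x2000c0006000604)
 (Net.cons 8 (nat_lit 0xd000d4003200b0)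
 (Net.cons 16 (nat_lit 0x7f5000002041)
 (Net.cons 32 (nat_lit 0xaebd0000)
 Net.nil)))))))))))

noncomputable def MuaH0_lb_n_4 : Net :=
 (Net.cons 8 (nat_lit 0x4000000700088)
 (Net.cons 4 (nat_lit 0xc040c000208)
 (Net.cons 2 (nat_lit 0x20200000020)
 (Net.cons 1 (nat_lit 0x441450001010)
 (Net.cons 2 (nat_lit 0x322201301100120)
 (Net.cons 4 (nat_lit 0x5030b0c000a0e)
 (Net.cons 8 (nat_lit 0xe000000700088)
 Net.nil)))))))

noncomputable def MuaH0_lb_n_5 : Net :=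
 (Net.cons 32 (nat_lit 0xaeb80000)
 (Net.cons 16 (nat_lit 0xee0000001040)
 (Net.cons 8 (nat_lit 0x9c004400400032)
 (Net.cons 4 (nat_lit 0x8040a04000c0804)
 (Net.cons 2 (nat_lit 0x20002000200)
 (Net.cons 1 (nat_lit 0x540004500150)
 (Net.cons 2 (nat_lit 0x1301021012301203)
 (Net.cons 4 (nat_lit 0x80c0a06000c0a04)
 (Net.cons 8 (nat_lit 0xbc00c400400032)
 (Net.cons 16 (nat_lit 0xee0000001040)
 (Net.cons 32 (nat_lit 0xaeba0000)
 Net.nil)))))))))))

noncomputable def MuaH0_lb_n_8 : Net :=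
 (Net.cons 32 (nat_lit 0xbefdc020)
 (Net.cons 16 (nat_lit 0xe08000090aa)
 (Net.cons 8 (nat_lit 0x6c0030009600c0)
 (Net.cons 4 (nat_lit 0x40e0006080a0c)
 (Net.cons 2 (nat_lit 0x2000)
 (Net.cons 1 (nat_lit 0x501055450414551)
 (Net.cons 2 (nat_lit 0x3132323331332001)
 (Net.cons 4 (nat_lit 0xa05000006070a0f)
 (Net.cons 8 (nat_lit 0x64003e009600e1)
 (Net.cons 16 (nat_lit 0x813700009aea)
 (Net.cons 32 (nat_lit 0xbeff8030)
 Net.nil)))))))))))

noncomputable def MuaH0_lb_n_64 : Net :=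
 (Net.cons 16 (nat_lit 0xec2e)
 (Net.cons 8 (nat_lit 0xf8000000380088)
 (Net.cons 4 (nat_lit 0xa000a060c040800)
 (Net.cons 2 (nat_lit 0x202220000002002)
 (Net.cons 1 (nat_lit 0x5401141015404544)
 (Net.cons 2 (nat_lit 0x3303322101130030)
 (Net.cons 4 (nat_lit 0x20008020e050b02)
 (Net.cons 8 (nat_lit 0xfa000000650032)
 (Net.cons 16 (nat_lit 0xf88e)
 Net.nil)))))))))

noncomputable def MuaH0_lb_n_66 : Net :=
 (Net.cons 8 (nat_lit 0x18000000040010)
 (Net.cons 4 (nat_lit 0x20006080400000c)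
 (Net.cons 2 (nat_lit 0x20220220000)
 (Net.cons 1 (nat_lit 0x1400144140144004)
 (Net.cons 2 (nat_lit 0x131320220030)
 (Net.cons 4 (nat_lit 0x20609070e02010c)
 (Net.cons 8 (nat_lit 0x19000000220012)
 Net.nil)))))))

noncomputable def MuaH0_lb_n_67 : Net :=
 (Net.cons 16 (nat_lit 0xc000)
 (Net.cons 8 (nat_lit 0xc000e0)
 (Net.cons 4 (nat_lit 0xc000c)
 (Net.cons 2 (nat_lit 0x20020)
 (Net.cons 1 (nat_lit 0x551555551415514)
 (Net.cons 2 (nat_lit 0x23320)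
 (Net.cons 4 (nat_lit 0xc090c)
 (Net.cons 8 (nat_lit 0xc000e0)
 (Net.cons 16 (nat_lit 0xc000)
 Net.nil)))))))))

noncomputable def MuaH0_lb_n : List Net := (apd [Net.nil,
 MuaH0_lb_n_1,
 Net.rev MuaH0_lb_n_1,
 MuaH0_lb_n_3,
 MuaH0_lb_n_4,
 MuaH0_lb_n_5,
 Net.nil,
 Net.nil,
 MuaH0_lb_n_8,
 Net.nil,
 Net.nil,
 Net.nil,
 Net.nil,
 Net.nil,
 Net.nil,
 Net.nil,
 Net.nil,
 Net.nil,
 Net.nil,
 Net.nil,
 Net.nil,
 Net.nil,
 Net.nil,
 Net.nil,
 Net.nil,
 Net.nil,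
 Net.nil,
 Net.nil,
 Net.nil,
 Net.nil,
 Net.nil,
 Net.nil,
 Net.nil,
 Net.nil,
 Net.nil,
 Net.nil,
 Net.nil,
 Net.nil,
 Net.nil,
 Net.nil]
 [Net.nil,
 Net.nil,
 Net.nil,
 Net.nil,
 Net.nil,
 Net.nil,
 Net.nil,
 Net.nil,
 Net.nil,
 Net.nil,
 Net.nil,
 Net.nil,
 Net.nil,
 Net.nil,
 Net.nil,
 Net.nil,
 Net.nil,
 Net.nil,
 Net.nil,
 Net.nil,
 Net.nil,
 Net.nil,
 Net.nil,
 Net.nil,
 MuaH0_lb_n_64,
 Net.rev MuaH0_lb_n_64,
 MuaH0_lb_n_66,
 MuaH0_lb_n_67])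

theorem MuaH0_lb_n_ok : NetsOK 64 MuaH0_lb_n := netsOK_of (by decide +kernel)

theorem MuaH0_lb : 1440 ≤ Nat.card (cl (gp nets) [1,2,3,4,5,8]) :=
  lb_of_itwB (k := 6) (n := 60) nets_ok MuaH0_lb_n_ok (by norm_num) (by norm_num) (tbA_pt nets_ok) (tbA_pt MuaH0_lb_n_ok) (φ := look2 (nat_lit 0x165a033d5033ce033ed01644033de0164a033d1033cc033e80164d033da104581046110459104661045a10490104761047710479104601045c104701049310480104631049e104680008210485000831046b1047d1045d000811046e000801045e1046902ec4016460164802ec30164c0164f00085033cf0164e01643033d701647033d3033cb033dd01645033df033cd033ee0007f) 20 64) (by decide +kernel) (by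
    rw [← cl_eq_of_slpB (k := 6) (D := [(64,[1,5,4,2]),
 (65,[1,4,5,2]),
 (66,[3,5]),
 (67,[65,66,64])]) MuaH0_lb_n_ok (by norm_num) (by decide +kernel)]
    exact lb_of_chainB MuaH0_lb_n_ok (C := [([4,64,65,66,67],[1,3,8,4,64,3,64,67],0,0,60),
 ([67],[4,64,66,67,4],1,1,12),
 ([],[67],48,48,2)]) (by decide +kernel))

theorem Mua_mb : MB (cl (gp nets) L) 453530 1 :=
  mb_one (w := 46) (n := 29) (La := L) (ix := nth 0 [0,0,0,0,1,2,3,4,5]) (by norm_num) (by norm_num) (nets_iv.sval _) (nets_rel.sval fun r hr x hx => mem_cl (sub_of_allR (by decide +kernel) r hr x hx)) (by decide +kernel)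
    (TStep.trans (TStep.trans (TStep.trans (TStep.trans (TStep.trans (TStep.trans (TStep.trans (TStep.trans (TStep.trans (TStep.trans (TStep.trans (TStep.repar (k' := 22) (by norm_num) (by norm_num) (by decide +kernel) (by decide +kernel) Mua1_b)
    (TStep.enum0 (by norm_num) (by norm_num) Mua2_0 (Gs := Mua2G) (by decide +kernel)))
    (TStep.repar (k' := 18) (by norm_num) (by norm_num) (by decide +kernel) (by decide +kernel) Mua3_b))
    (TStep.enum0 (by norm_num) (by norm_num) Mua4_0 (Gs := Mua4G) (by decide +kernel)))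
    (TStep.repar (k' := 13) (by norm_num) (by norm_num) (by decide +kernel) (by decide +kernel) Mua5_b))
    (TStep.enum0 (by norm_num) (by norm_num) Mua6_0 (Gs := Mua6G) (by decide +kernel)))
    (TStep.repar (k' := 7) (by norm_num) (by norm_num) (by decide +kernel) (by decide +kernel) Mua7_b))
    (TStep.enum0 (by norm_num) (by norm_num) Mua8_0 (Gs := Mua8G) (by decide +kernel)))
    (TStep.repar (k' := 4) (by norm_num) (by norm_num) (by decide +kernel) (by decide +kernel) Mua9_b))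
    (TStep.repar (k' := 4) (by norm_num) (by norm_num) (by decide +kernel) (by decide +kernel) Mua10_b))
    (TStep.enum (by norm_num) (by norm_num) Mua11_0 (I := [0,1,2,5,6,7,10,11,14,17,21,26,28]) (by decide +kernel) (by decide +kernel) MuaH0_0_ord (c := 1) (lb_sval (fun _ hx => mem_cl (sub_of_subB (by decide +kernel) _ hx)) MuaH0_lb (by norm_num)) (Gs := Mua11G) (by decide +kernel)))
    (TStep.repar (k' := 0) (by norm_num) (by norm_num) (by decide +kernel) (by decide +kernel) Mua12_b))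
    (L := [1,2,3,4,5,6,7,8]) (I := [0,1,2,3,4,5,6,7,8,9,10,11,12,13,14,15,16,17,18,19,20,21,22,23,24,25,26,27,28]) (by decide +kernel) (by decide +kernel) ord card.ge (cl_sval_top _ _)

end Cfsg.Lib.Comp.ON
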