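import Cfsg.Agent.Lib.Comp.ON.Base

set_option maxRecDepth 100000
set_option Elab.async false

namespace Cfsg.Lib.Comp.ON

universe u

noncomputable def MubH1_1_R : List (List ℕ × ℕ) := [([3],1),
 ([4],1),
 ([5],1),
 ([6],1),
 ([8],1),
 ([3,4],2),
 ([3,5],1),
 ([3,6],1),
 ([3,8],1),
 ([4,5],2),
 ([4,6],1),
 ([4,8],1),
 ([5,6],7),
 ([5,8],1),
 ([6,8],1),
 ([3,8,6,5,6,5,6,5,6,5],0)]

noncomputable def MubH1_1_n_3 : Net :=
 (Net.cons 4 (nat_lit 0x40c)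
 (Net.cons 1 (nat_lit 0x104)
 (Net.cons 2 (nat_lit 0x1020)
 (Net.cons 4 (nat_lit 0x40c)
 Net.nil))))

noncomputable def MubH1_1_n_4 : Net :=
 (Net.cons 1 (nat_lit 0x1004)
 (Net.cons 2 (nat_lit 0x210)
 Net.nil))

noncomputable def MubH1_1_n_5 : Net :=
 (Net.cons 8 (nat_lit 0xc0)
 (Net.cons 4 (nat_lit 0x800)
 (Net.cons 2 (nat_lit 0x2)
 (Net.cons 1 (nat_lit 0x4)
 (Net.cons 2 (nat_lit 0x1302)
 (Net.cons 4 (nat_lit 0xd00)
 (Net.cons 8 (nat_lit 0xc0)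
 Net.nil)))))))

noncomputable def MubH1_1_n_6 : Net :=
 (Net.cons 4 (nat_lit 0x204)
 (Net.cons 1 (nat_lit 0x1005)
 (Net.cons 2 (nat_lit 0x330)
 (Net.cons 4 (nat_lit 0x204)
 Net.nil))))

noncomputable def MubH1_1_n : List Net := [Net.nil,
 Net.nil,
 Net.nil,
 MubH1_1_n_3,
 MubH1_1_n_4,
 MubH1_1_n_5,
 MubH1_1_n_6]

theorem MubH1_1_n_ok : NetsOK 16 MubH1_1_n := netsOK_of (by decide +kernel)

theorem MubH1_1_n_rel : Rels (gp MubH1_1_n) MubH1_1_R := rels_of_relsB (k := 4) MubH1_1_n_ok (by norm_num) (by decide +kernel)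

theorem MubH1_1_fin : finB 16 MubH1_1_n [3,4,5,6,8] 14 (runH 16 MubH1_1_n (fun x p => ptInv (nth Net.nil MubH1_1_n x) p) iv MubH1_1_R [] ([3,4,5,8].map fun x => [x]) 0 []
  [1,5,9,13,0,4,8,12,24,28,40,56,60,24,28,36,40,52,56,20,24,36,44,52,56,60,8,32,36,44]
  (defsH 16 MubH1_1_n (ones 144) [6,5,6,4,5,6,3,4] (Nat.shiftLeft 1 0) 0)) = true := by decide +kernel

theorem MubH1_1_idx : Idx.{u} iv (MubH1_1_R ++ []) ([3,4,5,8].map fun x => [x]) [3,4,5,6,8] 14 :=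
  Reach.idx MubH1_1_n_ok (reach_runH MubH1_1_n_ok (fun x p _ => ptInv_gp MubH1_1_n_ok x p) MubH1_1_n_rel (reach_defsH MubH1_1_n_ok _ _ _ _ _ _) _ _) MubH1_1_fin (by norm_num)

end Cfsg.Lib.Comp.ON
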