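import Cfsg.Agent.Lib.Comp.ON.MubH0_0
import Cfsg.Agent.Lib.Comp.ON.MubH0_1
import Cfsg.Agent.Lib.Comp.ON.MubH0_2
import Cfsg.Agent.Lib.Comp.ON.MubH0_3
import Cfsg.Agent.Lib.Comp.ON.MubH0_4
import Cfsg.Agent.Lib.Comp.ON.MubH1_0
import Cfsg.Agent.Lib.Comp.ON.MubH1_1
import Cfsg.Agent.Lib.Comp.ON.MubH1_2
import Cfsg.Agent.Lib.Comp.ON.MubH1_3
import Cfsg.Agent.Lib.Comp.ON.MubH1_4
import Cfsg.Agent.Lib.Comp.ON.MubH1_5
import Cfsg.Agent.Lib.Comp.ON.Mub1
import Cfsg.Agent.Lib.Comp.ON.Main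
import Cfsg.Agent.Lib.Comp.Cover

set_option maxRecDepth 100000
set_option Elab.async false

namespace Cfsg.Lib.Comp.ON

universe u

theorem MubH0_4_ord : Ord.{u} iv MubH0_4_R [3] 2 :=
  (MubH0_4_idx.ord_base).of_cons (cons_of_subset (by decide +kernel))

theorem MubH0_3_ord : Ord.{u} iv MubH0_3_R [3,4] 6 :=
  (MubH0_3_idx.ord_step MubH0_4_ord).of_cons (cons_of_subset (by decide +kernel))

theorem MubH0_2_ord : Ord.{u} iv MubH0_2_R [3,4,5] 24 :=
  (MubH0_2_idx.ord_step MubH0_3_ord).of_cons (cons_of_subset (by decide +kernel))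

theorem MubH0_1_ord : Ord.{u} iv MubH0_1_R [3,4,5,8] 48 :=
  (MubH0_1_idx.ord_step MubH0_2_ord).of_cons (cons_of_subset (by decide +kernel))

theorem MubH0_0_ord : Ord.{u} iv MubH0_0_R [3,4,5,6,8] 672 :=
  (MubH0_0_idx.ord_step MubH0_1_ord).of_cons (cons_of_subset (by decide +kernel))

noncomputable def MubH0_lb_n_3 : Net :=
 (Net.cons 8 (nat_lit 0xe0)
 (Net.cons 4 (nat_lit 0xc)
 (Net.cons 2 (nat_lit 0x20)
 (Net.cons 1 (nat_lit 0x5505514)
 (Net.cons 2 (nat_lit 0x3320)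
 (Net.cons 4 (nat_lit 0x90c)
 (Net.cons 8 (nat_lit 0xe0)
 Net.nil)))))))

noncomputable def MubH0_lb_n_4 : Net :=
 (Net.cons 16 (nat_lit 0x4000)
 (Net.cons 8 (nat_lit 0xc00060)
 (Net.cons 4 (nat_lit 0x40c0404)
 (Net.cons 2 (nat_lit 0x220000)
 (Net.cons 1 (nat_lit 0x40140440)
 (Net.cons 2 (nat_lit 0x3221002)
 (Net.cons 4 (nat_lit 0x40c0604)
 (Net.cons 8 (nat_lit 0xc00060)
 (Net.cons 16 (nat_lit 0x4000)
 Net.nil)))))))))

noncomputable def MubH0_lb_n_5 : Net :=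
 (Net.cons 8 (nat_lit 0xc00080)
 (Net.cons 4 (nat_lit 0xc000808)
 (Net.cons 2 (nat_lit 0x2)
 (Net.cons 1 (nat_lit 0x45050004)
 (Net.cons 2 (nat_lit 0x3000332)
 (Net.cons 4 (nat_lit 0xc000808)
 (Net.cons 8 (nat_lit 0xc00080)
 Net.nil)))))))

noncomputable def MubH0_lb_n_6 : Net :=
 (Net.cons 16 (nat_lit 0x6aa8)
 (Net.cons 8 (nat_lit 0x6000e0)
 (Net.cons 4 (nat_lit 0x40400)
 (Net.cons 2 (nat_lit 0x20000020)
 (Net.cons 1 (nat_lit 0x45545514)
 (Net.cons 2 (nat_lit 0x20302120)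
 (Net.cons 4 (nat_lit 0x40b00)
 (Net.cons 8 (nat_lit 0x6000e0)
 (Net.cons 16 (nat_lit 0x6aab)
 Net.nil)))))))))

noncomputable def MubH0_lb_n_8 : Net :=
 (Net.cons 16 (nat_lit 0xc000)
 (Net.cons 8 (nat_lit 0xc000f8)
 (Net.cons 4 (nat_lit 0xc00000e)
 (Net.cons 1 (nat_lit 0x40000051)
 (Net.cons 2 (nat_lit 0x3330030)
 (Net.cons 4 (nat_lit 0xc000f0e)
 (Net.cons 8 (nat_lit 0xc000f8)
 (Net.cons 16 (nat_lit 0xc000)
 Net.nil))))))))

noncomputable def MubH0_lb_n : List Net := [Net.nil,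
 Net.nil,
 Net.nil,
 MubH0_lb_n_3,
 MubH0_lb_n_4,
 MubH0_lb_n_5,
 MubH0_lb_n_6,
 Net.nil,
 MubH0_lb_n_8]

theorem MubH0_lb_n_ok : NetsOK 32 MubH0_lb_n := netsOK_of (by decide +kernel)

theorem MubH0_lb : 672 ≤ Nat.card (cl (gp nets) [3,4,5,6,8]) :=
  lb_of_itwB (k := 5) (n := 28) nets_ok MubH0_lb_n_ok (by norm_num) (by norm_num) (tbA_pt nets_ok) (tbA_pt MubH0_lb_n_ok) (φ := look2 (nat_lit 0x31000320002e0002a0002f0002c000210001d0001b000190001c0001a000230001f000180002d00030000290002600025000220002b0002800027000240001e0002000017) 20 64) (by decide +kernel) (by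
    rw [← cl_eq_of_slpB (k := 5) (D := []) MubH0_lb_n_ok (by norm_num) (by decide +kernel)]
    exact lb_of_chainB MubH0_lb_n_ok (C := [([3,4,5],[6,8,5,4,6,3,5,6,4],0,0,28),
 ([3],[4,5,3,4,3],1,1,12),
 ([],[3],14,14,2)]) (by decide +kernel))

theorem MubH1_5_ord : Ord.{u} iv MubH1_5_R [3] 2 :=
  (MubH1_5_idx.ord_base).of_cons (cons_of_subset (by decide +kernel))

theorem MubH1_4_ord : Ord.{u} iv MubH1_4_R [3,4] 6 :=
  (MubH1_4_idx.ord_step MubH1_5_ord).of_cons (cons_of_subset (by decide +kernel))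

theorem MubH1_3_ord : Ord.{u} iv MubH1_3_R [3,4,5] 24 :=
  (MubH1_3_idx.ord_step MubH1_4_ord).of_cons (cons_of_subset (by decide +kernel))

theorem MubH1_2_ord : Ord.{u} iv MubH1_2_R [3,4,5,8] 48 :=
  (MubH1_2_idx.ord_step MubH1_3_ord).of_cons (cons_of_subset (by decide +kernel))

theorem MubH1_1_ord : Ord.{u} iv MubH1_1_R [3,4,5,6,8] 672 :=
  (MubH1_1_idx.ord_step MubH1_2_ord).of_cons (cons_of_subset (by decide +kernel))

theorem MubH1_0_ord : Ord.{u} iv MubH1_0_R [3,4,5,6,7,8] 3753792 :=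
  (MubH1_0_idx.ord_step MubH1_1_ord).of_cons (cons_of_subset (by decide +kernel))

theorem MubH1_lb : 3753792 ≤ Nat.card (cl (gp nets) [3,4,5,6,7,8]) :=
  lb_of_chainB nets_ok (C := [([3,4,5,6,8],[7,6,8,5,4,6,7,3,5,6,8,5,4,7,6,8,3,5,7,6,7,8,5,4,6,7,5,3,6,5,4,7,8,3,5,6,5,4,7,3,6,5,4],1,1,5586),
 ([],[3,4,5,6,8,3,4,5,3,4,6,3,5,6,4],64107,64107,672)]) (by decide +kernel)

theorem Mub_mb : MB (cl (gp nets) L) 9 3 :=
  mb_cyc (w := 15) (n := 29) (La := L) (ix := nth 0 [0,0,0,0,1,2,3,4,5]) (by norm_num) (by norm_num) (nets_iv.sval _) (nets_rel.sval fun r hr x hx => mem_cl (sub_of_allR (by decide +kernel) r hr x hx)) (by decide +kernel)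
    (TStep.trans (TStep.trans (TStep.trans (TStep.trans (TStep.trans (TStep.trans (TStep.trans (TStep.trans (TStep.trans (TStep.trans (TStep.trans (TStep.trans (TStep.trans (TStep.repar (k' := 22) (by norm_num) (by norm_num) (by decide +kernel) (by decide +kernel) Mub1_b)
    (TStep.enum0 (by norm_num) (by norm_num) Mub2_0 (Gs := Mub2G) (by decide +kernel)))
    (TStep.repar (k' := 15) (by norm_num) (by norm_num) (by decide +kernel) (by decide +kernel) Mub3_b))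
    (TStep.enum0 (by norm_num) (by norm_num) Mub4_0 (Gs := Mub4G) (by decide +kernel)))
    (TStep.repar (k' := 11) (by norm_num) (by norm_num) (by decide +kernel) (by decide +kernel) Mub5_b))
    (TStep.enum0 (by norm_num) (by norm_num) Mub6_0 (Gs := Mub6G) (by decide +kernel)))
    (TStep.repar (k' := 6) (by norm_num) (by norm_num) (by decide +kernel) (by decide +kernel) Mub7_b))
    (TStep.enum0 (by norm_num) (by norm_num) Mub8_0 (Gs := Mub8G) (by decide +kernel)))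
    (TStep.repar (k' := 3) (by norm_num) (by norm_num) (by decide +kernel) (by decide +kernel) Mub9_b))
    (TStep.enum (by norm_num) (by norm_num) Mub10_0 (I := [0,1,2,3,5,6,7,8,10,11,12,14,15,17,19,22]) (by decide +kernel) (by decide +kernel) MubH0_0_ord (c := 1) (lb_sval (fun _ hx => mem_cl (sub_of_subB (by decide +kernel) _ hx)) MubH0_lb (by norm_num)) (Gs := Mub10G) (by decide +kernel)))
    (TStep.repar (k' := 2) (by norm_num) (by norm_num) (by decide +kernel) (by decide +kernel) Mub11_b))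
    (TStep.enum (by norm_num) (by norm_num) Mub12_1 (I := [0,1,2,3,4,5,6,7,8,9,10,11,12,13,14,15,16,17,18,19,20,22]) (by decide +kernel) (by decide +kernel) MubH1_0_ord (c := 1) (lb_sval (fun _ hx => mem_cl (sub_of_subB (by decide +kernel) _ hx)) MubH1_lb (by norm_num)) (Gs := Mub12G) (by decide +kernel)))
    (TStep.repar (k' := 1) (by norm_num) (by norm_num) (by decide +kernel) (by decide +kernel) Mub13_b))
    (TStep.cons (by norm_num) (by norm_num) (c := (nat_lit 0x1)) (v := 3) (by decide +kernel) (by decide +kernel)))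
    (by norm_num) List.mem_cons_self (by norm_num)
    (TStep.repar (k' := 0) (by norm_num) (by norm_num) (by decide +kernel) (by decide +kernel) Mub15_b)
    (L := [1,2,3,4,5,6,7,8]) (I := [0,1,2,3,4,5,6,7,8,9,10,11,12,13,14,15,16,17,18,19,20,21,22,23,24,25,26,27,28]) (by decide +kernel) (by decide +kernel) ord card.ge (cl_sval_top _ _)

end Cfsg.Lib.Comp.ON
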