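import Cfsg.Agent.Lib.Comp.ON.Base

set_option maxRecDepth 100000
set_option Elab.async false

namespace Cfsg.Lib.Comp.ON

universe u

noncomputable def T2_R : List (List ℕ × ℕ) := [([3],1),
 ([4],1),
 ([5],1),
 ([6],1),
 ([8],1),
 ([3,4],2),
 ([3,5],1),
 ([3,6],1),
 ([3,8],1),
 ([4,5],2),
 ([4,6],1),
 ([4,8],1),
 ([5,6],7),
 ([5,8],1),
 ([6,8],1),
 ([3,8,6,5,6,5,6,5,6,5],0)]

noncomputable def T2_n_3 : Net :=
 (Net.cons 12 (nat_lit 0x800)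
 (Net.cons 6 (nat_lit 0x2c020)
 (Net.cons 3 (nat_lit 0x100000)
 (Net.cons 1 (nat_lit 0x8)
 (Net.cons 1 (nat_lit 0x82482)
 (Net.cons 3 (nat_lit 0x44180)
 (Net.cons 6 (nat_lit 0xa020)
 (Net.cons 12 (nat_lit 0x800)
 Net.nil))))))))

noncomputable def T2_n_4 : Net :=
 (Net.cons 12 (nat_lit 0x400)
 (Net.cons 6 (nat_lit 0x10)
 (Net.cons 1 (nat_lit 0x241)
 (Net.cons 3 (nat_lit 0x871c0)
 (Net.cons 6 (nat_lit 0x12010)
 (Net.cons 12 (nat_lit 0x400)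
 Net.nil))))))

noncomputable def T2_n_5 : Net :=
 (Net.cons 12 (nat_lit 0x200)
 (Net.cons 6 (nat_lit 0x2e020)
 (Net.cons 3 (nat_lit 0x180002)
 (Net.cons 1 (nat_lit 0x240008)
 (Net.cons 1 (nat_lit 0x82002)
 (Net.cons 1 (nat_lit 0x40000)
 (Net.cons 3 (nat_lit 0x181182)
 (Net.cons 6 (nat_lit 0x2e020)
 (Net.cons 12 (nat_lit 0x200)
 Net.nil)))))))))

noncomputable def T2_n_6 : Net :=
 (Net.cons 12 (nat_lit 0x800)
 (Net.cons 6 (nat_lit 0x2014)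
 (Net.cons 3 (nat_lit 0x80002)
 (Net.cons 1 (nat_lit 0x49008)
 (Net.cons 1 (nat_lit 0x480012)
 (Net.cons 1 (nat_lit 0x40008)
 (Net.cons 3 (nat_lit 0x870c2)
 (Net.cons 6 (nat_lit 0x2014)
 (Net.cons 12 (nat_lit 0x800)
 Net.nil)))))))))

noncomputable def T2_n : List Net := [Net.nil,
 Net.nil,
 Net.nil,
 T2_n_3,
 T2_n_4,
 T2_n_5,
 T2_n_6]

theorem T2_n_ok : NetsOK 24 T2_n := netsOK_of (by decide +kernel)

theorem T2_n_rel : Rels (gp T2_n) T2_R := rels_of_relsB (k := 5) T2_n_ok (by norm_num) (by decide +kernel)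

theorem T2_fin : finB 24 T2_n [3,4,5,6,8] 21 (runH 24 T2_n (fun x p => ptInv (nth Net.nil T2_n x) p) iv T2_R [] ([3,5,6,8].map fun x => [x]) 0 []
  [1,5,9,13,0,4,8,12,20,24,28,36,40,44,52,56,60,12,20,24,28,32,36,40,44,52,56,60,24,28,36,40,44,52,56,60,0,8,32]
  (defsH 24 T2_n (ones 216) [4,5,6,3,4,5,6,4,5,6,3] (Nat.shiftLeft 1 0) 0)) = true := by decide +kernel

theorem T2_idx : Idx.{u} iv (T2_R ++ []) ([3,5,6,8].map fun x => [x]) [3,4,5,6,8] 21 :=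
  Reach.idx T2_n_ok (reach_runH T2_n_ok (fun x p _ => ptInv_gp T2_n_ok x p) T2_n_rel (reach_defsH T2_n_ok _ _ _ _ _ _) _ _) T2_fin (by norm_num)

end Cfsg.Lib.Comp.ON
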