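import Cfsg.Agent.Lib.Comp.ON.Base

set_option maxRecDepth 100000
set_option Elab.async false

namespace Cfsg.Lib.Comp.ON

universe u

noncomputable def T3_R : List (List ℕ × ℕ) := [([3],1),
 ([5],1),
 ([6],1),
 ([8],1),
 ([3,5],1),
 ([3,6],1),
 ([3,8],1),
 ([5,6],7),
 ([5,8],1),
 ([6,8],1),
 ([3,8,6,5,6,5,6,5,6,5],0)]

noncomputable def T3_n_3 : Net :=
 (Net.cons 4 (nat_lit 0x4)
 (Net.cons 1 (nat_lit 0x55)
 (Net.cons 2 (nat_lit 0x30)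
 (Net.cons 4 (nat_lit 0xf0f0f04)
 Net.nil))))

noncomputable def T3_n_5 : Net :=
 (Net.cons 16 (nat_lit 0x9900)
 (Net.cons 8 (nat_lit 0xac)
 (Net.cons 4 (nat_lit 0xc00)
 (Net.cons 2 (nat_lit 0x2020)
 (Net.cons 1 (nat_lit 0x1114)
 (Net.cons 2 (nat_lit 0x3201)
 (Net.cons 4 (nat_lit 0xf03)
 (Net.cons 8 (nat_lit 0xff0053)
 (Net.cons 16 (nat_lit 0x9900)
 Net.nil)))))))))

noncomputable def T3_n_6 : Net :=
 (Net.cons 16 (nat_lit 0x6600)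
 (Net.cons 8 (nat_lit 0x38)
 (Net.cons 4 (nat_lit 0xa04)
 (Net.cons 2 (nat_lit 0x200)
 (Net.cons 1 (nat_lit 0x5415)
 (Net.cons 2 (nat_lit 0x3313)
 (Net.cons 4 (nat_lit 0xb05)
 (Net.cons 8 (nat_lit 0xff0085)
 (Net.cons 16 (nat_lit 0x6600)
 Net.nil)))))))))

noncomputable def T3_n_8 : Net :=
 (Net.cons 16 (nat_lit 0x5500)
 (Net.cons 8 (nat_lit 0xd0)
 (Net.cons 4 (nat_lit 0x208)
 (Net.cons 2 (nat_lit 0x2000)
 (Net.cons 1 (nat_lit 0x55554004)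
 (Net.cons 2 (nat_lit 0x112)
 (Net.cons 4 (nat_lit 0x70d)
 (Net.cons 8 (nat_lit 0xff002f)
 (Net.cons 16 (nat_lit 0x5500)
 Net.nil)))))))))

noncomputable def T3_n : List Net := [Net.nil,
 Net.nil,
 Net.nil,
 T3_n_3,
 Net.nil,
 T3_n_5,
 T3_n_6,
 Net.nil,
 T3_n_8]

theorem T3_n_ok : NetsOK 32 T3_n := netsOK_of (by decide +kernel)

theorem T3_n_rel : Rels (gp T3_n) T3_R := rels_of_relsB (k := 5) T3_n_ok (by norm_num) (by decide +kernel)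

theorem T3_fin : finB 32 T3_n [3,5,6,8] 32 (runH 32 T3_n (fun x p => ptInv (nth Net.nil T3_n x) p) iv T3_R [] ([].map fun x => [x]) 0 []
  [0,4,8,12,16,20,24,32,36,40,16,20]
  (defsH 32 T3_n (ones 288) [3,5,6,8,5,6] (Nat.shiftLeft 1 0) 0)) = true := by decide +kernel

theorem T3_idx : Idx.{u} iv (T3_R ++ []) ([].map fun x => [x]) [3,5,6,8] 32 :=
  Reach.idx T3_n_ok (reach_runH T3_n_ok (fun x p _ => ptInv_gp T3_n_ok x p) T3_n_rel (reach_defsH T3_n_ok _ _ _ _ _ _) _ _) T3_fin (by norm_num)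

end Cfsg.Lib.Comp.ON
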