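import Cfsg.Agent.Lib.Comp.ON.Out2
import Cfsg.Agent.Lib.Comp.ON.Main
import Cfsg.Agent.Lib.Comp.Subst

set_option maxRecDepth 100000
set_option Elab.async false

namespace Cfsg.Lib.Comp.ON

noncomputable def ch : List Lev := [([3,4,5,6,7,8],[1,4,5,6,7,1,6,8,5,4,3,1,6,7,4,5,1,6,7,1,4,5,8,6,7,1,4,3,1,4],0,0,122760),
 ([3,4,5,6,8],[7,6,8,5,4,6,7,3,5,6,8,5,4,7,6,8,3,5,7,6,7,8,5,4,6,7,5,3,6,5,4,7,8,3,5,6,5,4,7,3,6,5,4],1,1,5586),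
 ([],[3,4,5,6,8,3,4,5,3,4,6,3,5,6,4],64107,64107,672)]

theorem exact_ch : Exact nets ch L := exact_of_beq card.le (by decide +kernel)

theorem base : IsBase (cl (gp nets) L) [0,1,64107] := exact_ch.isBase nets_ok

noncomputable def tb0 : ℕ → ℕ → ℕ := tbx 131072 (tbk 17 5 prs17 nets 256)

theorem tb0_ok : TbA nets tb0 := tbA_tbx nets_ok (tbk_eq tr17 (by norm_num) (by norm_num) (by norm_num) nets_ok)

noncomputable def aV : List (List ℕ) := [[],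
 [3,5,4,3,6,5,4,3,6,5,4,7,6,5,4,6,8,7,6,5,4,6,5,4,7,6,5,4,6,7,8,7,6,5,1,4,6,5,6,7,6,5,4,6,5,7,1,6],
 [5,6,5,4,6,7,6,5,4,3,6,5,6,7,8,1,7,6,5,4,6,5,4,6,7,6,5,6,8],
 [4,3,6,5,4,6,5,4,3,7,6,5,4,6,5,6,5,4,7,6,5,4,8,7,6,5,4,6,7,8,1,4,6,7,6,5,8,7,6,5,4,1,5,7],
 [3,4,3,5,4,6,5,4,6,5,7,6,5,4,3,6,8,7,6,5,6,5,4,3,7,6,5,4,6,5,1,7,6,5,4,3,6,7,1,5,4,6,2],
 [3,4,5,4,3,6,5,4,3,8,7,6,5,4,6,5,7,6,5,4,3,6,5,6,7,6,5,4,3,6,5,4,8,7,1,4,3,6,7,6,5,6,5,7,6,2],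
 [3,4,3,5,4,3,6,5,4,3,7,6,5,4,3,6,8,7,6,5,4,6,5,4,7,6,5,4,6,5,7,6,8,7,6,5,1,4,7,6,5,4,2,6,5,7,2,6],
 [3,5,4,6,5,4,3,6,5,4,3,7,6,5,4,3,6,8,7,6,5,4,6,5,4,7,6,5,4,6,5,4,7,6,8,7,1,4,5,4,7,6,5,4,1,7,6,5,6,7,1],
 [3,4,3,6,5,4,6,5,4,6,7,6,5,4,6,5,6,7,6,5,4,3,6,5,7,6,8,1,4,5,6,5,1,4,3,7,6,5,4,3]]

theorem aV_sub : allL aV (fun w => subB w L) = true := by decide +kernel

theorem aV_iv : sivP tb0 [0,1,64107] aV iv = true := by decide +kernel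

theorem aV_rel : srelP tb0 [0,1,64107] aV R = true := by decide +kernel

noncomputable def aW : List ℕ := [3,4,3,6,5,4,6,5,6,7,6,5,4,3,6,5,4,6,7,6,5,4,3,6,5,8,7,6,5,4,1,4,2,5,4,6,5,7,6,5,4,6,7,1,5]

theorem aV_eq : seqP tb0 [0,1,64107] L aV [5,4,6] aW = true := by decide +kernel

theorem fx : ∀ s ∈ cl (gp nets) L, Fx 122760 s := fun _ hs =>
  fx_of_fxB nets_ok (by norm_num) (by norm_num) (cnd_tt.1 (cnd_tt.1 simpleB).2).1 hs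

theorem outer : ∃ σ : MulAut (cl (gp nets) L), σ ∉ Inn (cl (gp nets) L) :=
  outer_of_subst (k := 17) (u := [5,4,6]) (w := aW) (c := []) (x := 2) nets_ok simple nets_iv nets_rel ord lb
    (sv_mem (fun _ => mem_cl) aV_sub) (siv base tb0_ok (fun _ => mem_cl) aV_sub aV_iv)
    (srels base tb0_ok (fun _ => mem_cl) aV_sub aV_rel) (by decide)
    (sv_ne (p := 0) (tbA_pt nets_ok) (by decide +kernel)) fx (by simp)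
    (by rw [ev_nil, mul_one, one_mul]; exact seq_eq base tb0_ok (fun _ => mem_cl) aV_sub aV_eq) (by decide +kernel)

theorem out_eq : Nat.card (Out Spor.ON) = 2 := by
  obtain ⟨e, -⟩ := equiv
  rw [card_out_congr e]
  exact card_out_eq_two (out_le (MulEquiv.refl _)) outer

end Cfsg.Lib.Comp.ON
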