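import Cfsg.Agent.Lib.Comp.ON.Perm0

set_option maxRecDepth 100000
set_option Elab.async false

namespace Cfsg.Lib.Comp.ON

universe u

theorem nets_r0_0 : eqB 131072 17 0 17 nets [3] 1 [] = true := by decide +kernel

theorem nets_r1_0 : eqB 131072 17 0 17 nets [4] 1 [] = true := by decide +kernel

theorem nets_r2_0 : eqB 131072 17 0 17 nets [5] 1 [] = true := by decide +kernel

theorem nets_r3_0 : eqB 131072 17 0 17 nets [6] 1 [] = true := by decide +kernel

theorem nets_r4_0 : eqB 131072 17 0 17 nets [7] 1 [] = true := by decide +kernel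

theorem nets_r5_0 : eqB 131072 17 0 17 nets [8] 1 [] = true := by decide +kernel

theorem nets_r6_0 : eqB 131072 17 0 17 nets [3,4] 2 [] = true := by decide +kernel

theorem nets_r7_0 : eqB 131072 17 0 17 nets [3,5] 1 [] = true := by decide +kernel

theorem nets_r8_0 : eqB 131072 17 0 17 nets [3,6] 1 [] = true := by decide +kernel

theorem nets_r9_0 : eqB 131072 17 0 17 nets [3,7] 1 [] = true := by decide +kernel

theorem nets_r10_0 : eqB 131072 17 0 17 nets [3,8] 1 [] = true := by decide +kernel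

theorem nets_r11_0 : eqB 131072 17 0 17 nets [4,5] 2 [] = true := by decide +kernel

theorem nets_r12_0 : eqB 131072 17 0 17 nets [4,6] 1 [] = true := by decide +kernel

theorem nets_r13_0 : eqB 131072 17 0 17 nets [4,7] 1 [] = true := by decide +kernel

theorem nets_r14_0 : eqB 131072 17 0 17 nets [4,8] 1 [] = true := by decide +kernel

theorem nets_r15_0 : eqB 131072 17 0 17 nets [5,6] 7 [] = true := by decide +kernel

theorem nets_r16_0 : eqB 131072 17 0 17 nets [5,7] 1 [] = true := by decide +kernel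

theorem nets_r17_0 : eqB 131072 17 0 17 nets [5,8] 1 [] = true := by decide +kernel

theorem nets_r18_0 : eqB 131072 17 0 17 nets [6,7] 2 [] = true := by decide +kernel

theorem nets_r19_0 : eqB 131072 17 0 17 nets [6,8] 1 [] = true := by decide +kernel

theorem nets_r20_0 : eqB 131072 17 0 17 nets [7,8] 2 [] = true := by decide +kernel

theorem nets_r21_0 : eqB 131072 17 0 17 nets [3,8,2,2] 0 [] = true := by decide +kernel

theorem nets_r22_0 : eqB 131072 17 0 17 nets [3,8,6,5,6,5,6,5,6,5] 0 [] = true := by decide +kernel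

theorem nets_r23_0 : eqB 131072 17 0 17 nets [5,2,6,2,6,5,6,1,6,1] 0 [] = true := by decide +kernel

theorem nets_r24_0 : eqB 131072 17 0 17 nets [6,2,5,2,5,6,5,1,5,1] 0 [] = true := by decide +kernel

theorem nets_r25_0 : eqB 131072 17 0 17 nets [4,5,6,1] 4 [] = true := by decide +kernel

theorem nets_r26_0 : eqB 131072 17 0 17 nets [1,4,5,1,5,4,1,4,5,1,5] 0 [] = true := by decide +kernel

theorem nets_r27_0 : eqB 131072 17 0 17 nets [1,7,6,1,6,7,1,7,6,1,6] 0 [] = true := by decide +kernel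

theorem nets_r28_0 : eqB 131072 17 0 17 nets [1,2] 0 [] = true := by decide +kernel

theorem nets_rel : Rels (gp nets) R := by
  unfold R
  try simp only [apd_eq]
  intro r hr
  simp only [List.mem_append, List.mem_cons, List.not_mem_nil, or_false, or_assoc] at hr
  rcases hr with rfl | rfl | rfl | rfl | rfl | rfl | rfl | rfl | rfl | rfl | rfl | rfl | rfl | rfl | rfl | rfl | rfl | rfl | rfl | rfl | rfl | rfl | rfl | rfl | rfl | rfl | rfl | rfl | rfl
  · exact AgreeBits.eq (k := 17) (agree_of_eqB nets_ok (by norm_num) nets_r0_0) (by norm_num) ((fx_ev nets_ok.fx _).pow _) (Fx.one _)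
  · exact AgreeBits.eq (k := 17) (agree_of_eqB nets_ok (by norm_num) nets_r1_0) (by norm_num) ((fx_ev nets_ok.fx _).pow _) (Fx.one _)
  · exact AgreeBits.eq (k := 17) (agree_of_eqB nets_ok (by norm_num) nets_r2_0) (by norm_num) ((fx_ev nets_ok.fx _).pow _) (Fx.one _)
  · exact AgreeBits.eq (k := 17) (agree_of_eqB nets_ok (by norm_num) nets_r3_0) (by norm_num) ((fx_ev nets_ok.fx _).pow _) (Fx.one _)
  · exact AgreeBits.eq (k := 17) (agree_of_eqB nets_ok (by norm_num) nets_r4_0) (by norm_num) ((fx_ev nets_ok.fx _).pow _) (Fx.one _)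
  · exact AgreeBits.eq (k := 17) (agree_of_eqB nets_ok (by norm_num) nets_r5_0) (by norm_num) ((fx_ev nets_ok.fx _).pow _) (Fx.one _)
  · exact AgreeBits.eq (k := 17) (agree_of_eqB nets_ok (by norm_num) nets_r6_0) (by norm_num) ((fx_ev nets_ok.fx _).pow _) (Fx.one _)
  · exact AgreeBits.eq (k := 17) (agree_of_eqB nets_ok (by norm_num) nets_r7_0) (by norm_num) ((fx_ev nets_ok.fx _).pow _) (Fx.one _)
  · exact AgreeBits.eq (k := 17) (agree_of_eqB nets_ok (by norm_num) nets_r8_0) (by norm_num) ((fx_ev nets_ok.fx _).pow _) (Fx.one _)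
  · exact AgreeBits.eq (k := 17) (agree_of_eqB nets_ok (by norm_num) nets_r9_0) (by norm_num) ((fx_ev nets_ok.fx _).pow _) (Fx.one _)
  · exact AgreeBits.eq (k := 17) (agree_of_eqB nets_ok (by norm_num) nets_r10_0) (by norm_num) ((fx_ev nets_ok.fx _).pow _) (Fx.one _)
  · exact AgreeBits.eq (k := 17) (agree_of_eqB nets_ok (by norm_num) nets_r11_0) (by norm_num) ((fx_ev nets_ok.fx _).pow _) (Fx.one _)
  · exact AgreeBits.eq (k := 17) (agree_of_eqB nets_ok (by norm_num) nets_r12_0) (by norm_num) ((fx_ev nets_ok.fx _).pow _) (Fx.one _)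
  · exact AgreeBits.eq (k := 17) (agree_of_eqB nets_ok (by norm_num) nets_r13_0) (by norm_num) ((fx_ev nets_ok.fx _).pow _) (Fx.one _)
  · exact AgreeBits.eq (k := 17) (agree_of_eqB nets_ok (by norm_num) nets_r14_0) (by norm_num) ((fx_ev nets_ok.fx _).pow _) (Fx.one _)
  · exact AgreeBits.eq (k := 17) (agree_of_eqB nets_ok (by norm_num) nets_r15_0) (by norm_num) ((fx_ev nets_ok.fx _).pow _) (Fx.one _)
  · exact AgreeBits.eq (k := 17) (agree_of_eqB nets_ok (by norm_num) nets_r16_0) (by norm_num) ((fx_ev nets_ok.fx _).pow _) (Fx.one _)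
  · exact AgreeBits.eq (k := 17) (agree_of_eqB nets_ok (by norm_num) nets_r17_0) (by norm_num) ((fx_ev nets_ok.fx _).pow _) (Fx.one _)
  · exact AgreeBits.eq (k := 17) (agree_of_eqB nets_ok (by norm_num) nets_r18_0) (by norm_num) ((fx_ev nets_ok.fx _).pow _) (Fx.one _)
  · exact AgreeBits.eq (k := 17) (agree_of_eqB nets_ok (by norm_num) nets_r19_0) (by norm_num) ((fx_ev nets_ok.fx _).pow _) (Fx.one _)
  · exact AgreeBits.eq (k := 17) (agree_of_eqB nets_ok (by norm_num) nets_r20_0) (by norm_num) ((fx_ev nets_ok.fx _).pow _) (Fx.one _)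
  · exact AgreeBits.eq (k := 17) (agree_of_eqB nets_ok (by norm_num) nets_r21_0) (by norm_num) ((fx_ev nets_ok.fx _).pow _) (Fx.one _)
  · exact AgreeBits.eq (k := 17) (agree_of_eqB nets_ok (by norm_num) nets_r22_0) (by norm_num) ((fx_ev nets_ok.fx _).pow _) (Fx.one _)
  · exact AgreeBits.eq (k := 17) (agree_of_eqB nets_ok (by norm_num) nets_r23_0) (by norm_num) ((fx_ev nets_ok.fx _).pow _) (Fx.one _)
  · exact AgreeBits.eq (k := 17) (agree_of_eqB nets_ok (by norm_num) nets_r24_0) (by norm_num) ((fx_ev nets_ok.fx _).pow _) (Fx.one _)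
  · exact AgreeBits.eq (k := 17) (agree_of_eqB nets_ok (by norm_num) nets_r25_0) (by norm_num) ((fx_ev nets_ok.fx _).pow _) (Fx.one _)
  · exact AgreeBits.eq (k := 17) (agree_of_eqB nets_ok (by norm_num) nets_r26_0) (by norm_num) ((fx_ev nets_ok.fx _).pow _) (Fx.one _)
  · exact AgreeBits.eq (k := 17) (agree_of_eqB nets_ok (by norm_num) nets_r27_0) (by norm_num) ((fx_ev nets_ok.fx _).pow _) (Fx.one _)
  · exact AgreeBits.eq (k := 17) (agree_of_eqB nets_ok (by norm_num) nets_r28_0) (by norm_num) ((fx_ev nets_ok.fx _).pow _) (Fx.one _)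

end Cfsg.Lib.Comp.ON
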