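import Cfsg.Agent.Lib.Comp.ON.Perm1

set_option maxRecDepth 100000
set_option Elab.async false

namespace Cfsg.Lib.Comp.ON

universe u

theorem nets_iv : IvOK (gp nets) iv := ivOK_of_ivB (k := 17) nets_ok (by norm_num) (by decide +kernel)

noncomputable def slp : List (ℕ × List ℕ) := []

theorem slp_ok : slpB 131072 17 nets slp L = true := by decide +kernel

theorem mem_all {x : ℕ} (h : x ∈ L ++ slp.map (·.1)) : gp nets x ∈ cl (gp nets) L :=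
  cl_eq_of_slpB nets_ok (by norm_num) slp_ok ▸ mem_cl h

theorem lb : 460815505920 ≤ Nat.card (cl (gp nets) L) := by
  rw [← cl_eq_of_slpB nets_ok (by norm_num) slp_ok]
  exact lb_of_chainB nets_ok (C := [([3,4,5,6,7,8],[1,4,5,6,7,1,6,8,5,4,3,1,6,7,4,5,1,6,7,1,4,5,8,6,7,1,4,3,1,4],0,0,122760),
 ([3,4,5,6,8],[7,6,8,5,4,6,7,3,5,6,8,5,4,7,6,8,3,5,7,6,7,8,5,4,6,7,5,3,6,5,4,7,8,3,5,6,5,4,7,3,6,5,4],1,1,5586),
 ([],[3,4,5,6,8,3,4,5,3,4,6,3,5,6,4],64107,64107,672)]) (by decide +kernel)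

end Cfsg.Lib.Comp.ON
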