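import Cfsg.Agent.Lib.Comp.ON.Out3
import Cfsg.Agent.Lib.Comp.Subst2
import Cfsg.Agent.Lib.Comp.JRa.Main
import Cfsg.Agent.Lib.Comp.M11x.Main
import Cfsg.Agent.Lib.Comp.L37x.Main

set_option maxRecDepth 100000
set_option Elab.async false

namespace Cfsg.Lib.Comp.ON

noncomputable def j1V : List (List ℕ) := [[],
 [3,5,4,3,7,6,5,4,3,6,5,4,7,6,5,4,6,1,4,3,7,1,6,5,7,6,2,4,5,4,6,7],
 [3,6,5,4,3,6,7,6,5,4,6,5,4,6,7,6,5,4,6,5,6,5,4,7,6,5,8,7,6,5,1,4,6,5,6,5,4,7,6,5,6,5,4,1],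
 [2,4,5,6,5,6,7,4,5,6,5,6,4,2,5,6,7,8,5,6,7,4,5,6,5,6,4,5,6,7,6,4,5,6,4,5,6,7,6,3,4,5,6,3],
 [3,4,6,5,4,6,8,7,6,5,4,3,6,5,4,7,6,5,6,5,4,3,7,1,7,2,6,5,4,6,5,7,6,2,7],
 [7,1,6,7,5,6,4,5,6,1,7,2,7,3,4,5,6,5,6,7,4,5,6,3,4,5,6,7,8,6,4,5,6,4,3],
 [3,4,3,6,7,6,5,4,3,6,5,4,3,7,6,5,4,6,5,6,7,6,5,6,7,8,1,4,3,5,7,6,5,8,7,6,1,4,7,2],
 [4,3,5,4,6,5,4,6,7,6,5,4,8,7,6,5,4,6,5,7,1,6,7,6,5,4,6,1,5,7,6,2,4,5,1],
 [3,4,3,6,5,4,3,6,7,6,5,4,6,5,6,7,6,5,4,6,5,7,6,5,4,6,7,8,1,4,5,6,5,7,1,4,1,6,7,1,6,5]]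

theorem j1_sub : allL j1V (fun w => subB w L) = true := by decide +kernel

theorem j1_iv : sivP tb0 [0,1,64107] j1V JRa.iv = true := by decide +kernel

theorem j1_rel : srelP tb0 [0,1,64107] j1V JRa.R = true := by decide +kernel

theorem j1_ne : ∃ p ∈ [0,1,64107], Nat.beq (wap tb0 (nth [] j1V 1) p) p = false := by decide +kernel

theorem j1_le : cl (sv (gp nets) j1V) JRa.L ≤ cl (gp nets) L := cl_le.2 fun x _ => sv_mem (fun _ => mem_cl) j1_sub x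

theorem j1_iso : Nonempty (cl (gp JRa.nets) JRa.L ≃* cl (sv (gp nets) j1V) JRa.L) := by
  obtain ⟨p, -, hp⟩ := j1_ne
  obtain ⟨e, -⟩ := embed_of_rels JRa.simple JRa.nets_iv JRa.nets_rel JRa.ord JRa.lb
    (siv base tb0_ok (fun _ => mem_cl) j1_sub j1_iv) (srels base tb0_ok (fun _ => mem_cl) j1_sub j1_rel) (x := 1) (by decide)
    (sv_ne tb0_ok hp)
  exact ⟨e⟩

noncomputable def m11V : List (List ℕ) := [[],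
 [4,3,5,4,3,8,7,6,5,4,3,6,8,7,6,5,4,6,5,4,7,6,5,4,6,5,4,6,7,1,4,2,5,6,7,1,5,4,6,1,5,7],
 [7,5,2,6,4,5,2,7,6,5,1,4,2,7,6,4,5,6,4,5,6,7,4,5,6,4,5,6,7,8,6,3,4,5,6,7,8,3,4,5,3,4],
 [4,5,6,5,4,3,6,5,4,6,5,7,6,5,4,6,5,7,6,5,4,3,8,7,6,5,6,1,4,5,7,6,5,8,7,6,5,4,6,5,7,2],
 [1,7,5,6,4,5,6,7,8,5,6,7,5,4,2,6,5,6,7,8,3,4,5,6,7,5,6,4,5,6,7,5,6,4,5,6,3,4,5,6,5,4],
 [3,4,3,6,5,6,8,7,6,5,4,6,8,7,6,5,4,6,5,7,6,5,1,4,3,7,1,5,6,5,7,6,5,4],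
 [3,5,6,5,7,6,5,4,3,6,5,8,7,6,5,4,3,6,5,7,6,5,1,4,2,5,6,5,4,7,6,5,4,2],
 [3,4,3,6,5,4,6,5,6,7,6,5,4,8,7,6,5,6,1,4,3,5,6,5,7,6,5,4,1,4,3]]

theorem m11_sub : allL m11V (fun w => subB w L) = true := by decide +kernel

theorem m11_iv : sivP tb0 [0,1,64107] m11V M11x.iv = true := by decide +kernel

theorem m11_rel : srelP tb0 [0,1,64107] m11V M11x.R = true := by decide +kernel

theorem m11_ne : ∃ p ∈ [0,1,64107], Nat.beq (wap tb0 (nth [] m11V 1) p) p = false := by decide +kernel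

theorem m11_le : cl (sv (gp nets) m11V) M11x.L ≤ cl (gp nets) L := cl_le.2 fun x _ => sv_mem (fun _ => mem_cl) m11_sub x

theorem m11_iso : Nonempty (cl (gp M11x.nets) M11x.L ≃* cl (sv (gp nets) m11V) M11x.L) := by
  obtain ⟨p, -, hp⟩ := m11_ne
  obtain ⟨e, -⟩ := embed_of_rels M11x.simple M11x.nets_iv M11x.nets_rel M11x.ord M11x.lb
    (siv base tb0_ok (fun _ => mem_cl) m11_sub m11_iv) (srels base tb0_ok (fun _ => mem_cl) m11_sub m11_rel) (x := 1) (by decide)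
    (sv_ne tb0_ok hp)
  exact ⟨e⟩

noncomputable def l37V : List (List ℕ) := [[],
 [3,4,3,5,4,6,8,7,6,5,4,3,6,7,8,7,6,5,4,3],
 [4,3,5,6,7,6,5,4,3,6,5,6,7,6,5,4],
 [5,4,6,5,4,6,5,8,7,6,5,4,6,8,7,6,5,4,6,5,4,7,6,5,8,7,6,5],
 [4,3,5,4,6,5,6,5,4,3,7,6,5,4,6,5,4,6,7,6,5,4,6,7],
 [7,6,4,5,6,7,6,4,5,6,4,5,6,7,3,4,5,6,5,6,4,5,3,4],
 [4,3,6,5,6,7,6,5,4,6,5,6,5,7,6,5,4,6,5,6,7,6,5,4,6,7],
 [3,4,6,8,7,6,5,4,3,6,7,8],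
 [4,5,6,5,7,6,5,8,7,6,5,4]]

theorem l37_sub : allL l37V (fun w => subB w L) = true := by decide +kernel

theorem l37_iv : sivP tb0 [0,1,64107] l37V L37x.iv = true := by decide +kernel

theorem l37_rel : srelP tb0 [0,1,64107] l37V L37x.R = true := by decide +kernel

theorem l37_ne : ∃ p ∈ [0,1,64107], Nat.beq (wap tb0 (nth [] l37V 1) p) p = false := by decide +kernel

theorem l37_le : cl (sv (gp nets) l37V) L37x.L ≤ cl (gp nets) L := cl_le.2 fun x _ => sv_mem (fun _ => mem_cl) l37_sub x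

theorem l37_iso : Nonempty (cl (gp L37x.nets) L37x.L ≃* cl (sv (gp nets) l37V) L37x.L) := by
  obtain ⟨p, -, hp⟩ := l37_ne
  obtain ⟨e, -⟩ := embed_of_rels L37x.simple L37x.nets_iv L37x.nets_rel L37x.ord L37x.lb
    (siv base tb0_ok (fun _ => mem_cl) l37_sub l37_iv) (srels base tb0_ok (fun _ => mem_cl) l37_sub l37_rel) (x := 1) (by decide)
    (sv_ne tb0_ok hp)
  exact ⟨e⟩

theorem l37_fix : ∀ s ∈ cl (sv (gp nets) l37V) L37x.L, s 0 = 0 := sv_fix tb0_ok (by decide +kernel) _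

end Cfsg.Lib.Comp.ON
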