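import Cfsg.Agent.Lib.Comp.ON.Perm2

set_option maxRecDepth 100000
set_option Elab.async false

namespace Cfsg.Lib.Comp.ON

universe u

noncomputable def T0_R : List (List ℕ × ℕ) := [([3],1),
 ([4],1),
 ([5],1),
 ([6],1),
 ([7],1),
 ([8],1),
 ([3,4],2),
 ([3,5],1),
 ([3,6],1),
 ([3,7],1),
 ([3,8],1),
 ([4,5],2),
 ([4,6],1),
 ([4,7],1),
 ([4,8],1),
 ([5,6],7),
 ([5,7],1),
 ([5,8],1),
 ([6,7],2),
 ([6,8],1),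
 ([7,8],2),
 ([3,8,2,2],0),
 ([3,8,6,5,6,5,6,5,6,5],0),
 ([5,2,6,2,6,5,6,1,6,1],0),
 ([6,2,5,2,5,6,5,1,5,1],0),
 ([4,5,6,1],4),
 ([1,4,5,1,5,4,1,4,5,1,5],0),
 ([1,7,6,1,6,7,1,7,6,1,6],0),
 ([1,2],0)]

theorem nets_rel_T0 : Rels (gp nets) T0_R := nets_rel.mono (by decide +kernel)

end Cfsg.Lib.Comp.ON
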